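import Mathlib
import Cfsg.Agent.CosetCert.Lower

/-!
An upper bound on the centralizer of an element in the image of a presented group in the
permutations of its table, when the orbit lengths of a chain are exact; and a base.
-/

namespace Cfsg.Agent.CosetCert

namespace Data

variable (D : Data)

/-- The number of points of a level fixed by a word. -/
noncomputable def fixCount (L : Level) (zw : List Nat) (m : Nat) : Nat :=
  Nat.rec 0 (fun j ih => force (Nat.div (L.pts j) 1099511627776) fun p =>
    Bool.rec (motive := fun _ => Nat) ih (Nat.succ ih) (Nat.beq (D.fwd zw p) p)) m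

/-- The bound `c` for a level: all points, or the fixed ones when the base point is fixed. -/
def CentOK (zw : List Nat) : List Level → List Nat → Prop
  | [], [] => True
  | L :: ls, c :: cs =>
      (L.size ≤ c ∨ D.fwd zw L.base = L.base ∧ D.fixCount L zw L.size ≤ c) ∧ CentOK zw ls cs
  | _, _ => False

variable {D}

theorem fixCount_eq (L : Level) (zw : List Nat) (m : Nat) :
    D.fixCount L zw m =
      Nat.count (fun j => D.fwd zw (L.pts j / 1099511627776) = L.pts j / 1099511627776) m := by
  induction m with
  | zero => simp [fixCount]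
  | succ m ih =>
    rw [Nat.count_succ, ← ih]
    show force (Nat.div (L.pts m) 1099511627776) (fun p =>
      Bool.rec (motive := fun _ => Nat) (D.fixCount L zw m) (Nat.succ (D.fixCount L zw m))
        (Nat.beq (D.fwd zw p) p)) = _
    rw [force_eq]
    by_cases hp : D.fwd zw (L.pts m / 1099511627776) = L.pts m / 1099511627776
    · have hb : Nat.beq (D.fwd zw (L.pts m / 1099511627776)) (L.pts m / 1099511627776) = true := by
        simpa using hp
      simp only [if_pos hp]
      erw [hb]
    · have hb : Nat.beq (D.fwd zw (L.pts m / 1099511627776)) (L.pts m / 1099511627776) = false :=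
        eq_false_of_ne_true fun h => hp (Nat.eq_of_beq_eq_true h)
      simp only [if_neg hp]
      erw [hb]
      rfl

section main

variable {β : Type*} [DecidableEq β] {rels : Set (FreeGroup β)} {Sg : List (FreeGroup β)}
  {enc : β → Nat} {dec : Nat → β × Bool} {RL : List (List (β × Bool))}

/-- The elements of the image fixing some points. -/
def fixing (φ : PresentedGroup rels →* Equiv.Perm (Fin D.n)) (bs : List Nat) :
    Subgroup (Equiv.Perm (Fin D.n)) where
  carrier := {σ | σ ∈ φ.range ∧ ∀ c : Fin D.n, (c : Nat) ∈ bs → σ c = c}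
  one_mem' := ⟨one_mem _, fun _ _ => rfl⟩
  mul_mem' := fun {a b} ha hb => ⟨mul_mem ha.1 hb.1, fun c hc => by
    rw [Equiv.Perm.mul_apply, hb.2 c hc, ha.2 c hc]⟩
  inv_mem' := fun {a} ha => ⟨inv_mem ha.1, fun c hc => by
    rw [Equiv.Perm.inv_eq_iff_eq, ha.2 c hc]⟩

/-- With exact orbit lengths the centralizer is bounded level by level, and the base points
of the levels form a base. -/
theorem exact_chain (h : D.Valid) (S : Spells D rels Sg enc dec RL)
    (φ : PresentedGroup rels →* Equiv.Perm (Fin D.n))
    (hfwd : ∀ (l : List (β × Bool)) (c : Fin D.n),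
      (((φ (PresentedGroup.mk rels (FreeGroup.mk l)))⁻¹ c : Fin D.n) : Nat) =
        D.fwd (l.map (code D.iv enc)) c)
    (z : Equiv.Perm (Fin D.n)) (zw : List Nat) (hz : ∀ c : Fin D.n, (z c : Nat) = D.fwd zw c)
    (levels : List Level) (hok : D.LevelsOK [] levels) (cs : List Nat)
    (hcs : D.CentOK zw levels cs) (hle : Nat.card φ.range ≤ (levels.map Level.size).prod) :
    Nat.card (φ.range ⊓ Subgroup.centralizer {z} : Subgroup _) ≤ cs.prod ∧
    ∀ σ ∈ φ.range, (∀ c : Fin D.n, (c : Nat) ∈ levels.map Level.base → σ c = c) → σ = 1 := by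
  classical
  suffices key : ∀ (bs : List Nat) (ls : List Level) (cs : List Nat),
      D.LevelsOK bs ls → D.CentOK zw ls cs →
      (ls.map Level.size).prod ≤ Nat.card (fixing φ bs) ∧
      (Nat.card (fixing φ bs) ≤ (ls.map Level.size).prod →
        Nat.card (fixing φ bs ⊓ Subgroup.centralizer {z} : Subgroup _) ≤ cs.prod ∧
        fixing φ (bs ++ ls.map Level.base) = ⊥) by
    have h0 : fixing φ [] = φ.range :=
      le_antisymm (fun σ hσ => hσ.1) (fun σ hσ => ⟨hσ, fun c hc => absurd hc (List.not_mem_nil)⟩)
    obtain ⟨h1, h2⟩ := (key [] levels cs hok hcs).2 (by rw [h0]; exact hle)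
    rw [h0] at h1
    refine ⟨h1, fun σ hσ hfix => ?_⟩
    have : σ ∈ fixing φ ([] ++ levels.map Level.base) := ⟨hσ, by simpa using hfix⟩
    rw [h2] at this
    exact Subgroup.mem_bot.1 this
  intro bs ls
  induction ls generalizing bs with
  | nil =>
    intro cs _ hc
    cases cs with
    | cons c cs => exact hc.elim
    | nil =>
      have hpos : 0 < Nat.card (fixing φ bs) := Nat.card_pos
      simp only [List.map_nil, List.prod_nil]
      refine ⟨by omega, fun hle => ⟨?_, ?_⟩⟩
      · exact (Subgroup.card_le_of_le inf_le_left).trans hle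
      · rw [List.append_nil]
        exact Subgroup.card_eq_one.1 (le_antisymm hle hpos)
  | cons L rest ih =>
    rintro cs ⟨⟨hb, hg, hp⟩, hrest⟩ hc
    cases cs with
    | nil => exact hc.elim
    | cons c cs =>
    obtain ⟨hc1, hc2⟩ := hc
    obtain ⟨ihlow, ihup⟩ := ih (bs ++ [L.base]) cs hrest hc2
    let b : Fin D.n := ⟨L.base, hb⟩
    have hword : ∀ w ∈ L.gens, ∃ σ ∈ fixing φ bs,
        ∀ c : Fin D.n, ((σ c : Fin D.n) : Nat) = D.fwd w c := by
      intro w hw
      have h1 := List.all_eq_true.1 hg w hw
      rw [Bool.and_eq_true] at h1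
      obtain ⟨h1, h2⟩ := h1
      have hcode : (w.map dec).map (code D.iv enc) = w := by
        rw [List.map_map]
        conv_rhs => rw [← List.map_id w]
        exact List.map_congr_left fun x hx =>
          S.code_dec x (Nat.ble_eq.mp (List.all_eq_true.1 h1 x hx))
      have happ : ∀ c : Fin D.n,
          (((φ (PresentedGroup.mk rels (FreeGroup.mk (w.map dec))))⁻¹ c : Fin D.n) : Nat) =
            D.fwd w c := fun c => by rw [hfwd, hcode]
      refine ⟨_, ⟨inv_mem ⟨_, rfl⟩, fun c hc => Fin.ext ?_⟩, happ⟩
      rw [happ c]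
      exact Nat.eq_of_beq_eq_true (List.all_eq_true.1 h2 _ hc)
    let pt : Nat → Nat := fun j => L.pts j / 1099511627776
    have hspec : ∀ j, j < L.size → pt j < D.n ∧ L.pos (pt j) = j ∧ (j = 0 → pt j = L.base) ∧
        (j ≠ 0 → ∃ par, par < j ∧ ∃ w ∈ L.gens, D.fwd w (pt par) = pt j) := by
      intro j hj
      have h1 := hp j hj
      simp only [checkPoint, force_eq, gate_eq, Bool.and_eq_true] at h1
      obtain ⟨hpos, hlt, h1⟩ := h1
      refine ⟨Nat.ble_eq.mp hlt, Nat.eq_of_beq_eq_true hpos, ?_, ?_⟩
      · rintro rfl
        exact Nat.eq_of_beq_eq_true h1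
      · intro hj0
        have : Nat.beq j 0 = false := by
          cases hbb : Nat.beq j 0
          · rfl
          · exact absurd (Nat.eq_of_beq_eq_true hbb) hj0
        rw [this] at h1
        simp only [Bool.and_eq_true] at h1
        obtain ⟨hpar, hgl, hT⟩ := h1
        refine ⟨_, Nat.ble_eq.mp hpar, _, ?_, Nat.eq_of_beq_eq_true hT⟩
        rw [word_eq, List.getD_eq_getElem _ _ (Nat.ble_eq.mp hgl)]
        exact List.getElem_mem _
    have horb : ∀ j (hj : j < L.size),
        (⟨pt j, (hspec j hj).1⟩ : Fin D.n) ∈ MulAction.orbit (fixing φ bs) b := by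
      intro j
      induction j using Nat.strong_induction_on with
      | _ j ihj =>
        intro hj
        rcases eq_or_ne j 0 with rfl | hj0
        · have : (⟨pt 0, (hspec 0 hj).1⟩ : Fin D.n) = b := Fin.ext ((hspec 0 hj).2.2.1 rfl)
          rw [this]; exact MulAction.mem_orbit_self _
        · obtain ⟨par, hpar, w, hw, hT⟩ := (hspec j hj).2.2.2 hj0
          obtain ⟨σ, hσ, happ⟩ := hword w hw
          have hprev := ihj par hpar (hpar.trans hj)
          have : (⟨pt j, (hspec j hj).1⟩ : Fin D.n) =
              (⟨σ, hσ⟩ : fixing φ bs) •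
                (⟨pt par, (hspec par (hpar.trans hj)).1⟩ : Fin D.n) := by
            apply Fin.ext
            show pt j = ((σ _ : Fin D.n) : Nat)
            rw [happ]; exact hT.symm
          rw [this]
          exact MulAction.mem_orbit_of_mem_orbit _ hprev
    let emb : Fin L.size → Fin D.n := fun j => ⟨pt j, (hspec j j.2).1⟩
    have hinj : Function.Injective emb := by
      intro i j hij
      have : pt i = pt j := congrArg Fin.val hij
      apply Fin.ext
      rw [← (hspec i i.2).2.1, ← (hspec j j.2).2.1, this]
    have hsub : Set.range emb ⊆ MulAction.orbit (fixing φ bs) b := by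
      rintro _ ⟨j, rfl⟩; exact horb j j.2
    have hcard : L.size ≤ (MulAction.orbit (fixing φ bs) b).ncard := by
      calc L.size = (Set.range emb).ncard := by
            rw [← Nat.card_coe_set_eq, Nat.card_range_of_injective hinj, Nat.card_fin]
        _ ≤ _ := Set.ncard_le_ncard hsub (Set.toFinite _)
    have hstab : Nat.card (fixing φ (bs ++ [L.base])) =
        Nat.card (MulAction.stabilizer (fixing φ bs) b) := by
      refine Nat.card_congr
        { toFun := fun σ => ⟨⟨σ.1, σ.2.1, fun c hc => σ.2.2 c (List.mem_append_left _ hc)⟩,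
            σ.2.2 b (List.mem_append_right _ (List.mem_singleton.2 rfl))⟩
          invFun := fun σ => ⟨σ.1.1, σ.1.2.1, fun c hc => ?_⟩
          left_inv := fun _ => rfl
          right_inv := fun _ => rfl }
      rcases List.mem_append.1 hc with hc | hc
      · exact σ.1.2.2 c hc
      · have : c = b := Fin.ext (List.mem_singleton.1 hc)
        rw [this]; exact σ.2
    have hmul : (MulAction.orbit (fixing φ bs) b).ncard * Nat.card (fixing φ (bs ++ [L.base])) =
        Nat.card (fixing φ bs) := by
      rw [hstab, ← MulAction.index_stabilizer, mul_comm, Subgroup.card_mul_index]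
    refine ⟨?_, fun hle => ?_⟩
    · rw [← hmul, List.map_cons, List.prod_cons]
      exact Nat.mul_le_mul hcard ihlow
    rw [List.map_cons, List.prod_cons, ← hmul] at hle
    have hopos : 0 < (MulAction.orbit (fixing φ bs) b).ncard :=
      (Set.ncard_pos (Set.toFinite _)).2 ⟨b, MulAction.mem_orbit_self _⟩
    have hspos : 0 < Nat.card (fixing φ (bs ++ [L.base])) := Nat.card_pos
    have hr : Nat.card (fixing φ (bs ++ [L.base])) ≤ (rest.map Level.size).prod := by
      by_contra hlt
      push Not at hlt
      have : L.size * (rest.map Level.size).prod < (MulAction.orbit (fixing φ bs) b).ncard *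
          Nat.card (fixing φ (bs ++ [L.base])) :=
        calc L.size * (rest.map Level.size).prod
            ≤ (MulAction.orbit (fixing φ bs) b).ncard * (rest.map Level.size).prod :=
              Nat.mul_le_mul_right _ hcard
          _ < _ := Nat.mul_lt_mul_of_pos_left hlt hopos
      omega
    have ho : (MulAction.orbit (fixing φ bs) b).ncard ≤ L.size := by
      by_contra hlt
      push Not at hlt
      have : L.size * (rest.map Level.size).prod < (MulAction.orbit (fixing φ bs) b).ncard *
          Nat.card (fixing φ (bs ++ [L.base])) :=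
        calc L.size * (rest.map Level.size).prod
            ≤ L.size * Nat.card (fixing φ (bs ++ [L.base])) := Nat.mul_le_mul_left _ ihlow
          _ < _ := Nat.mul_lt_mul_of_pos_right hlt hspos
      omega
    have horbeq : MulAction.orbit (fixing φ bs) b = Set.range emb := by
      refine (Set.eq_of_subset_of_ncard_le hsub ?_ (Set.toFinite _)).symm
      rw [← Nat.card_coe_set_eq (Set.range emb), Nat.card_range_of_injective hinj, Nat.card_fin]
      exact ho
    obtain ⟨hcent, hbot⟩ := ihup hr
    refine ⟨?_, by rw [List.map_cons, ← List.append_cons bs L.base] at *; exact hbot⟩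
    let C : Subgroup (Equiv.Perm (Fin D.n)) := fixing φ bs ⊓ Subgroup.centralizer {z}
    have horbC : (MulAction.orbit C b).ncard ≤ c := by
      rcases hc1 with hc1 | ⟨hzb, hcnt⟩
      · refine le_trans ?_ (ho.trans hc1)
        refine Set.ncard_le_ncard ?_ (Set.toFinite _)
        rintro _ ⟨σ, rfl⟩
        exact ⟨⟨σ.1, σ.2.1⟩, rfl⟩
      · rw [fixCount_eq, Nat.count_eq_card_filter_range] at hcnt
        refine le_trans ?_ hcnt
        rw [← Set.ncard_coe_finset]
        refine Set.ncard_le_ncard_of_injOn (fun p => L.pos (p : Nat)) ?_ ?_ (Set.toFinite _)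
        · rintro _ ⟨σ, rfl⟩
          have hmem : σ.1 b ∈ MulAction.orbit (fixing φ bs) b := ⟨⟨σ.1, σ.2.1⟩, rfl⟩
          rw [horbeq] at hmem
          obtain ⟨j, hj⟩ := hmem
          show L.pos (((σ • b : Fin D.n)) : Nat) ∈ _
          have hσ : (σ • b : Fin D.n) = σ.1 b := rfl
          rw [hσ, ← hj]
          show L.pos (pt j) ∈ _
          rw [(hspec j j.2).2.1]
          simp only [Finset.coe_filter, Finset.mem_range, Set.mem_setOf_eq, j.2, true_and]
          have hb' : z b = b := Fin.ext ((hz b).trans hzb)
          have hfx : z (σ.1 b) = σ.1 b := by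
            have hcm : z * σ.1 = σ.1 * z :=
              Subgroup.mem_centralizer_iff.1 σ.2.2 z rfl
            rw [← Equiv.Perm.mul_apply, hcm, Equiv.Perm.mul_apply, hb']
          rw [← hj] at hfx
          exact (hz (emb j)).symm.trans (congrArg Fin.val hfx)
        · intro p hp q hq hpq
          have hpC : ∀ p, p ∈ MulAction.orbit C b → ∃ j : Fin L.size, emb j = p := by
            rintro _ ⟨σ, rfl⟩
            have hmem : σ.1 b ∈ MulAction.orbit (fixing φ bs) b := ⟨⟨σ.1, σ.2.1⟩, rfl⟩
            rw [horbeq] at hmem
            exact hmem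
          obtain ⟨i, rfl⟩ := hpC p hp
          obtain ⟨j, rfl⟩ := hpC q hq
          have : (i : Nat) = j := by
            rw [← (hspec i i.2).2.1, ← (hspec j j.2).2.1]; exact hpq
          rw [Fin.ext this]
    have hstabC : Nat.card (MulAction.stabilizer C b) ≤
        Nat.card (fixing φ (bs ++ [L.base]) ⊓ Subgroup.centralizer {z} : Subgroup _) := by
      refine Nat.card_le_card_of_injective
        (fun σ => ⟨σ.1.1, ⟨σ.1.2.1.1, fun c hc => ?_⟩, σ.1.2.2⟩) ?_
      · rcases List.mem_append.1 hc with hc | hc
        · exact σ.1.2.1.2 c hc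
        · have : c = b := Fin.ext (List.mem_singleton.1 hc)
          rw [this]; exact σ.2
      · intro a a' haa
        have hval := congrArg Subtype.val haa
        exact Subtype.ext (Subtype.ext hval)
    rw [List.prod_cons]
    calc Nat.card C = (MulAction.orbit C b).ncard * Nat.card (MulAction.stabilizer C b) := by
          rw [← MulAction.index_stabilizer, mul_comm, Subgroup.card_mul_index]
      _ ≤ c * cs.prod := Nat.mul_le_mul horbC (hstabC.trans hcent)

end main

end Data

end Cfsg.Agent.CosetCert
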