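import Mathlib

/-!
Five by five matrices over the field with two elements as numbers, and a bound on the
centralizer of a transvection.
-/

namespace Cfsg.Agent.HeFacts

/-- A row of five bits. -/
def row5 (v : Nat) : Fin 5 → ZMod 2 := fun c => ((v / 2 ^ (c : Nat) % 2 : Nat) : ZMod 2)

/-- Row `r` of a packed matrix, as a number. -/
def rowOf (m r : Nat) : Nat := m / 32 ^ r % 32

/-- A packed matrix. -/
def mat5 (m : Nat) : Matrix (Fin 5) (Fin 5) (ZMod 2) :=
  Matrix.of fun r => row5 (rowOf m (r : Nat))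

theorem row5_inj : ∀ v, v < 32 → ∀ w, w < 32 → row5 v = row5 w → v = w := by decide +kernel

theorem mat5_mul {A : Matrix (Fin 5) (Fin 5) (ZMod 2)} {T : Nat → Nat}
    (hT : ∀ v, v < 32 → row5 (T v) = Matrix.vecMul (row5 v) A)
    {m m' : Nat} (h : ∀ r, r < 5 → rowOf m' r = T (rowOf m r)) :
    mat5 m' = mat5 m * A := by
  ext r c
  have hr : rowOf m (r : Nat) < 32 := Nat.mod_lt _ (by norm_num)
  show row5 (rowOf m' (r : Nat)) c = _
  rw [h r r.2, hT _ hr]
  rfl

theorem mat5_eq_one {m : Nat} (h : mat5 m = 1) :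
    ∀ r, r < 5 → rowOf m r = 2 ^ r := by
  intro r hr
  refine row5_inj _ (Nat.mod_lt _ (by norm_num)) _ ?_ ?_
  · calc 2 ^ r ≤ 2 ^ 4 := Nat.pow_le_pow_right (by norm_num) (by omega)
      _ < 32 := by norm_num
  · have h1 : ∀ q c : Fin 5,
        row5 (2 ^ (q : Nat)) c = if q = c then (1 : ZMod 2) else 0 := by
      intro q
      fin_cases q <;> decide +kernel
    funext c
    rw [h1 ⟨r, hr⟩ c, ← Matrix.one_apply, ← h]
    rfl

/-- The transvection. -/
abbrev tv : Matrix (Fin 5) (Fin 5) (ZMod 2) := Matrix.transvection 0 1 1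

theorem commute_tv {M : Matrix (Fin 5) (Fin 5) (ZMod 2)} (h : M * tv = tv * M) :
    (∀ r : Fin 5, r ≠ 0 → M r 0 = 0) ∧ (∀ c : Fin 5, c ≠ 1 → M 1 c = 0) ∧ M 0 0 = M 1 1 := by
  have h' : M * Matrix.single (0 : Fin 5) (1 : Fin 5) (1 : ZMod 2) =
      Matrix.single (0 : Fin 5) (1 : Fin 5) (1 : ZMod 2) * M := by
    simp only [tv, Matrix.transvection, mul_add, add_mul, mul_one, one_mul] at h
    exact add_left_cancel h
  refine ⟨fun r hr => ?_, fun c hc => ?_, ?_⟩
  · have := congrFun (congrFun h' r) 1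
    simpa [hr] using this
  · have := congrFun (congrFun h' 0) c
    simpa [hc] using this.symm
  · have := congrFun (congrFun h' 0) 1
    simpa using this

/-- The lower middle block. -/
def blk (M : Matrix (Fin 5) (Fin 5) (ZMod 2)) : Matrix (Fin 3) (Fin 3) (ZMod 2) :=
  M.submatrix (Fin.natAdd 2) (Fin.natAdd 2)

theorem blk_mul {M M' : Matrix (Fin 5) (Fin 5) (ZMod 2)} (h : M * tv = tv * M)
    (h' : M' * tv = tv * M') (hMM : M * M' = 1) : blk M * blk M' = 1 := by
  obtain ⟨hc, -, -⟩ := commute_tv h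
  obtain ⟨-, hr, -⟩ := commute_tv h'
  ext i j
  have e := congrFun (congrFun hMM (Fin.natAdd 2 i)) (Fin.natAdd 2 j)
  rw [Matrix.mul_apply, Fin.sum_univ_succ, Fin.sum_univ_succ] at e
  have hne0 : ∀ i : Fin 3, (Fin.natAdd 2 i : Fin 5) ≠ 0 := by decide
  have hne1 : ∀ i : Fin 3, (Fin.natAdd 2 i : Fin 5) ≠ 1 := by decide
  have h0 : M (Fin.natAdd 2 i) 0 = 0 := hc _ (hne0 i)
  have h1 : M' (Fin.succ 0) (Fin.natAdd 2 j) = 0 := hr _ (hne1 j)
  rw [h0, h1, zero_mul, mul_zero, zero_add, zero_add] at e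
  rw [Matrix.mul_apply]
  have hone : (1 : Matrix (Fin 5) (Fin 5) (ZMod 2)) (Fin.natAdd 2 i) (Fin.natAdd 2 j) =
      (1 : Matrix (Fin 3) (Fin 3) (ZMod 2)) i j := by
    simp [Matrix.one_apply, Fin.ext_iff]
  rw [← hone, ← e]
  refine Finset.sum_congr rfl fun k _ => ?_
  have hk : (Fin.succ (Fin.succ k) : Fin 5) = Fin.natAdd 2 k := by
    ext; simp; omega
  rw [hk]
  rfl

theorem card_cent_le (s : Matrix.SpecialLinearGroup (Fin 5) (ZMod 2))
    (hs : (s : Matrix (Fin 5) (Fin 5) (ZMod 2)) = Matrix.transvection 0 1 1) :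
    Nat.card (Subgroup.centralizer ({s} : Set (Matrix.SpecialLinearGroup (Fin 5) (ZMod 2)))) ≤
      21504 := by
  classical
  have hcomm : ∀ g ∈ Subgroup.centralizer ({s} : Set (Matrix.SpecialLinearGroup (Fin 5) (ZMod 2))),
      (g : Matrix (Fin 5) (Fin 5) (ZMod 2)) * tv = tv * g := by
    intro g hg
    have := congrArg Subtype.val (Subgroup.mem_centralizer_iff.1 hg s rfl)
    rw [Matrix.SpecialLinearGroup.coe_mul, Matrix.SpecialLinearGroup.coe_mul, hs] at this
    exact this.symm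
  let C := Subgroup.centralizer ({s} : Set (Matrix.SpecialLinearGroup (Fin 5) (ZMod 2)))
  have hinv : ∀ g : C, blk (g.1 : Matrix (Fin 5) (Fin 5) (ZMod 2)) *
      blk ((g.1⁻¹ : Matrix.SpecialLinearGroup (Fin 5) (ZMod 2)) :
        Matrix (Fin 5) (Fin 5) (ZMod 2)) = 1 := fun g =>
    blk_mul (hcomm _ g.2) (hcomm _ (inv_mem g.2))
      (by rw [← Matrix.SpecialLinearGroup.coe_mul, mul_inv_cancel]; rfl)
  let f : C → (Fin 4 → ZMod 2) × (Fin 3 → ZMod 2) × Matrix.GeneralLinearGroup (Fin 3) (ZMod 2) :=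
    fun g => (fun j => (g.1 : Matrix (Fin 5) (Fin 5) (ZMod 2)) 0 (Fin.succ j),
      fun i => (g.1 : Matrix (Fin 5) (Fin 5) (ZMod 2)) (Fin.natAdd 2 i) 1,
      ⟨_, _, hinv g, mul_eq_one_comm.1 (hinv g)⟩)
  have hdiag : ∀ g : C, (g.1 : Matrix (Fin 5) (Fin 5) (ZMod 2)) 1 1 = 1 := by
    intro g
    obtain ⟨-, hr, -⟩ := commute_tv (hcomm _ g.2)
    rcases (by decide : ∀ x : ZMod 2, x = 0 ∨ x = 1) ((g.1 : Matrix (Fin 5) (Fin 5) (ZMod 2)) 1 1)
      with h | h
    · exfalso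
      have hdet := g.1.2
      rw [Matrix.det_eq_zero_of_row_eq_zero (A := g.1.1) 1 (fun c => by
        by_cases hc : c = 1
        · rw [hc]; exact h
        · exact hr c hc)] at hdet
      exact zero_ne_one hdet
    · exact h
  have hf : Function.Injective f := by
    intro g g' hgg
    obtain ⟨hcol, hrow, hd⟩ := commute_tv (hcomm _ g.2)
    obtain ⟨hcol', hrow', hd'⟩ := commute_tv (hcomm _ g'.2)
    have e1 := congrArg Prod.fst hgg
    have e2 := congrArg (fun p => p.2.1) hgg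
    have e3 := congrArg (fun p => (p.2.2 : Matrix (Fin 3) (Fin 3) (ZMod 2))) hgg
    apply Subtype.ext; apply Subtype.ext
    ext r c
    have hnat : ∀ k : Fin 5, k = 0 ∨ k = 1 ∨ ∃ j : Fin 3, k = Fin.natAdd 2 j := by decide
    by_cases hr0 : r = 0
    · subst hr0
      rcases Fin.eq_zero_or_eq_succ c with rfl | ⟨j, rfl⟩
      · rw [hd, hd', hdiag g, hdiag g']
      · exact congrFun e1 j
    by_cases hr1 : r = 1
    · subst hr1
      by_cases hc1 : c = 1
      · subst hc1; rw [hdiag g, hdiag g']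
      · rw [hrow c hc1, hrow' c hc1]
    obtain h0 | h1 | ⟨i, rfl⟩ := hnat r
    · exact absurd h0 hr0
    · exact absurd h1 hr1
    rcases hnat c with rfl | rfl | ⟨j, rfl⟩
    · rw [hcol _ hr0, hcol' _ hr0]
    · exact congrFun e2 i
    · exact congrFun (congrFun e3 i) j
  refine (Nat.card_le_card_of_injective f hf).trans (le_of_eq ?_)
  rw [Nat.card_prod, Nat.card_prod, Matrix.card_GL_field]
  simp [Fin.prod_univ_three]

end Cfsg.Agent.HeFacts
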