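import Mathlib

/-! Generated: generators of the centralizers -/

set_option Elab.async false

namespace Cfsg.Agent.HeFacts

/-- The words of the two generators of the centralizer. -/
def wordX : List Nat := [1, 0, 2, 5]

def wordY : List Nat := [2, 1, 2, 5, 3, 5, 2, 3, 2, 6, 3, 1, 5, 4, 5, 1, 3, 6, 2, 3, 2, 5, 3, 5, 2, 4, 2, 5, 3, 5, 2, 3, 2, 6, 3, 1, 5, 5]

/-- Their images. -/
def matA : Matrix (Fin 5) (Fin 5) (ZMod 2) := !![1, 0, 0, 0, 0; 0, 1, 0, 0, 0; 0, 1, 1, 0, 0; 0, 0, 0, 0, 1; 0, 0, 0, 1, 1]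

def matB : Matrix (Fin 5) (Fin 5) (ZMod 2) := !![1, 0, 0, 1, 1; 0, 1, 0, 0, 0; 0, 0, 1, 0, 1; 0, 1, 0, 0, 1; 0, 0, 1, 1, 0]

/-- The rows of the images, for all rows. -/
noncomputable def rowA (v : Nat) : Nat := Nat.mod (Nat.div 0x6b1ee5a928ef3fedeb38ad2f69ca30290e618820 (Nat.pow 32 v)) 32

noncomputable def rowB (v : Nat) : Nat := Nat.mod (Nat.div 0x8a26a2f0fe1e838bbaace93e64c1727d9b4d8b20 (Nat.pow 32 v)) 32

end Cfsg.Agent.HeFacts
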