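import Cfsg.Agent.CosetCert.HeSp44.Main
import Cfsg.Agent.HeFacts.IsoData
import Cfsg.Agent.HeFacts.IsoDefs

/-! The checks on the table of the centralizer. -/

set_option Elab.async false

namespace Cfsg.Agent.HeFacts

open Cfsg.Agent.CosetCert

noncomputable def keyOf (i : Nat) : Nat := get48 keyStore i
noncomputable def matOf (i : Nat) : Nat := Nat.mod (get48 stateA i) 33554432
noncomputable def bitOf (i : Nat) : Bool := Nat.beq (Nat.mod (Nat.div (get48 stateA i) 33554432) 2) 1
noncomputable def nextX (i : Nat) : Nat := Nat.mod (Nat.div (get48 stateA i) 67108864) 32768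
noncomputable def nextY (i : Nat) : Nat := Nat.mod (get48 stateB i) 32768
noncomputable def prevX (i : Nat) : Nat := Nat.mod (Nat.div (get48 stateB i) 32768) 32768
noncomputable def prevY (i : Nat) : Nat := Nat.mod (Nat.div (get48 stateB i) 1073741824) 32768

/-- Move the four packed points of a key. -/
noncomputable def moveKey (p : Nat → Nat) (k : Nat) : Nat :=
  Nat.add (p (Nat.mod k 4096)) (Nat.add (Nat.mul 4096 (p (Nat.mod (Nat.div k 4096) 4096)))
    (Nat.add (Nat.mul 16777216 (p (Nat.mod (Nat.div k 16777216) 4096)))
      (Nat.mul 68719476736 (p (Nat.mod (Nat.div k 68719476736) 4096)))))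

noncomputable def rowK (m r : Nat) : Nat := Nat.mod (Nat.div m (Nat.pow 32 r)) 32

/-- One state along one letter. -/
noncomputable def checkEdge (p T : Nat → Nat) (i j : Nat) : Bool :=
  gate (Nat.blt j 21504) (gate (Nat.beq (keyOf j) (moveKey p (keyOf i)))
    (force (matOf i) fun m => force (matOf j) fun m' =>
      gate (Nat.beq (rowK m' 0) (T (rowK m 0))) (gate (Nat.beq (rowK m' 1) (T (rowK m 1)))
        (gate (Nat.beq (rowK m' 2) (T (rowK m 2))) (gate (Nat.beq (rowK m' 3) (T (rowK m 3)))
          (Nat.beq (rowK m' 4) (T (rowK m 4))))))))

/-- The state is not the root's, unless it is the root. -/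
noncomputable def checkRoot (i : Nat) : Bool :=
  Bool.rec (motive := fun _ => Bool)
    (gate (Nat.blt (cond (bitOf i) (prevY i) (prevX i)) i)
      (gate (not (Nat.beq (keyOf i) (keyOf 0))) (force (matOf i) fun m =>
        not (gate (Nat.beq (rowK m 0) 1) (gate (Nat.beq (rowK m 1) 2) (gate (Nat.beq (rowK m 2) 4)
          (gate (Nat.beq (rowK m 3) 8) (Nat.beq (rowK m 4) 16))))))))
    true (Nat.beq i 0)

noncomputable def checkState (i : Nat) : Bool :=
  gate (force (nextX i) fun j => checkEdge (get48 permX) rowA i j)
    (gate (force (nextY i) fun j => checkEdge (get48 permY) rowB i j)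
      (gate (force (prevX i) fun j => gate (Nat.blt j 21504) (Nat.beq (nextX j) i))
        (gate (force (prevY i) fun j => gate (Nat.blt j 21504) (Nat.beq (nextY j) i))
          (checkRoot i))))

/-- A stored permutation is the one of a word and commutes with the letter `4`. -/
noncomputable def checkWord (S : Store) (w : List Nat) (c : Nat) : Bool :=
  gate (Nat.beq (get48 S c) (HeSp44.data.fwd w c))
    (gate (Nat.beq (get48 S (HeSp44.data.fwd [4] c)) (HeSp44.data.fwd [4] (get48 S c)))
      (Nat.beq (HeSp44.data.fwd [4] (HeSp44.data.fwd [4] c)) c))

theorem wordXcAt0 : allFrom (checkWord permX wordX) 0 700 = true := by decide +kernel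

theorem wordXcAt700 : allFrom (checkWord permX wordX) 700 700 = true := by decide +kernel

theorem wordXcAt1400 : allFrom (checkWord permX wordX) 1400 658 = true := by decide +kernel

theorem wordXc_ok : ∀ j, j < 2058 → (checkWord permX wordX) j = true := by
  have h0 : ∀ j, j < 0 → (checkWord permX wordX) j = true := forall_lt_zero
  have h1 := forall_lt_step (b := 700) h0 wordXcAt0 rfl
  have h2 := forall_lt_step (b := 1400) h1 wordXcAt700 rfl
  have h3 := forall_lt_step (b := 2058) h2 wordXcAt1400 rfl
  exact h3

theorem wordYcAt0 : allFrom (checkWord permY wordY) 0 700 = true := by decide +kernel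

theorem wordYcAt700 : allFrom (checkWord permY wordY) 700 700 = true := by decide +kernel

theorem wordYcAt1400 : allFrom (checkWord permY wordY) 1400 658 = true := by decide +kernel

theorem wordYc_ok : ∀ j, j < 2058 → (checkWord permY wordY) j = true := by
  have h0 : ∀ j, j < 0 → (checkWord permY wordY) j = true := forall_lt_zero
  have h1 := forall_lt_step (b := 700) h0 wordYcAt0 rfl
  have h2 := forall_lt_step (b := 1400) h1 wordYcAt700 rfl
  have h3 := forall_lt_step (b := 2058) h2 wordYcAt1400 rfl
  exact h3

theorem statecAt0 : allFrom (checkState) 0 1000 = true := by decide +kernel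

theorem statecAt1000 : allFrom (checkState) 1000 1000 = true := by decide +kernel

theorem statecAt2000 : allFrom (checkState) 2000 1000 = true := by decide +kernel

theorem statecAt3000 : allFrom (checkState) 3000 1000 = true := by decide +kernel

theorem statecAt4000 : allFrom (checkState) 4000 1000 = true := by decide +kernel

theorem statecAt5000 : allFrom (checkState) 5000 1000 = true := by decide +kernel

theorem statecAt6000 : allFrom (checkState) 6000 1000 = true := by decide +kernel

theorem statecAt7000 : allFrom (checkState) 7000 1000 = true := by decide +kernel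

theorem statecAt8000 : allFrom (checkState) 8000 1000 = true := by decide +kernel

theorem statecAt9000 : allFrom (checkState) 9000 1000 = true := by decide +kernel

theorem statecAt10000 : allFrom (checkState) 10000 1000 = true := by decide +kernel

theorem statecAt11000 : allFrom (checkState) 11000 1000 = true := by decide +kernel

theorem statecAt12000 : allFrom (checkState) 12000 1000 = true := by decide +kernel

theorem statecAt13000 : allFrom (checkState) 13000 1000 = true := by decide +kernel

theorem statecAt14000 : allFrom (checkState) 14000 1000 = true := by decide +kernel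

theorem statecAt15000 : allFrom (checkState) 15000 1000 = true := by decide +kernel

theorem statecAt16000 : allFrom (checkState) 16000 1000 = true := by decide +kernel

theorem statecAt17000 : allFrom (checkState) 17000 1000 = true := by decide +kernel

theorem statecAt18000 : allFrom (checkState) 18000 1000 = true := by decide +kernel

theorem statecAt19000 : allFrom (checkState) 19000 1000 = true := by decide +kernel

theorem statecAt20000 : allFrom (checkState) 20000 1000 = true := by decide +kernel

theorem statecAt21000 : allFrom (checkState) 21000 504 = true := by decide +kernel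

theorem statec_ok : ∀ j, j < 21504 → (checkState) j = true := by
  have h0 : ∀ j, j < 0 → (checkState) j = true := forall_lt_zero
  have h1 := forall_lt_step (b := 1000) h0 statecAt0 rfl
  have h2 := forall_lt_step (b := 2000) h1 statecAt1000 rfl
  have h3 := forall_lt_step (b := 3000) h2 statecAt2000 rfl
  have h4 := forall_lt_step (b := 4000) h3 statecAt3000 rfl
  have h5 := forall_lt_step (b := 5000) h4 statecAt4000 rfl
  have h6 := forall_lt_step (b := 6000) h5 statecAt5000 rfl
  have h7 := forall_lt_step (b := 7000) h6 statecAt6000 rfl
  have h8 := forall_lt_step (b := 8000) h7 statecAt7000 rfl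
  have h9 := forall_lt_step (b := 9000) h8 statecAt8000 rfl
  have h10 := forall_lt_step (b := 10000) h9 statecAt9000 rfl
  have h11 := forall_lt_step (b := 11000) h10 statecAt10000 rfl
  have h12 := forall_lt_step (b := 12000) h11 statecAt11000 rfl
  have h13 := forall_lt_step (b := 13000) h12 statecAt12000 rfl
  have h14 := forall_lt_step (b := 14000) h13 statecAt13000 rfl
  have h15 := forall_lt_step (b := 15000) h14 statecAt14000 rfl
  have h16 := forall_lt_step (b := 16000) h15 statecAt15000 rfl
  have h17 := forall_lt_step (b := 17000) h16 statecAt16000 rfl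
  have h18 := forall_lt_step (b := 18000) h17 statecAt17000 rfl
  have h19 := forall_lt_step (b := 19000) h18 statecAt18000 rfl
  have h20 := forall_lt_step (b := 20000) h19 statecAt19000 rfl
  have h21 := forall_lt_step (b := 21000) h20 statecAt20000 rfl
  have h22 := forall_lt_step (b := 21504) h21 statecAt21000 rfl
  exact h22

end Cfsg.Agent.HeFacts
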