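import Mathlib

/-!
A table of states proving that two pairs of elements generate isomorphic subgroups of a
known order.
-/

namespace Cfsg.Agent.HeFacts

/-- The steps of a table: two next-state maps and two previous-state maps; the parent of a
state is the previous state along the letter `bit`. -/
structure Steps (N : Nat) where
  nxt : Bool → Nat → Nat
  prv : Bool → Nat → Nat
  bit : Nat → Bool
  nxt_lt : ∀ l i, i < N → nxt l i < N
  prv_lt : ∀ l i, i < N → prv l i < N
  nxt_prv : ∀ l i, i < N → nxt l (prv l i) = i
  parent_lt : ∀ i, i < N → i ≠ 0 → prv (bit i) i < i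

/-- The two generators as a function on letters. -/
def pick {G : Type*} (x y : G) : Bool → G
  | false => x
  | true => y

/-- The value of a state: the product along its path from the root. -/
def Steps.val {N : Nat} (S : Steps N) {G : Type*} [Monoid G] (gen : Bool → G) (i : Nat) : G :=
  if h : i ≠ 0 ∧ S.prv (S.bit i) i < i then S.val gen (S.prv (S.bit i) i) * gen (S.bit i) else 1
termination_by i
decreasing_by exact h.2

theorem Steps.val_zero {N : Nat} (S : Steps N) {G : Type*} [Monoid G] (gen : Bool → G) :
    S.val gen 0 = 1 := by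
  rw [Steps.val, dif_neg (by simp)]

theorem Steps.val_succ {N : Nat} (S : Steps N) {G : Type*} [Monoid G] (gen : Bool → G)
    {i : Nat} (hi : i < N) (h0 : i ≠ 0) :
    S.val gen i = S.val gen (S.prv (S.bit i) i) * gen (S.bit i) := by
  conv_lhs => rw [Steps.val, dif_pos ⟨h0, S.parent_lt i hi h0⟩]

/-- A faithful reading of a group along a table: `key` is injective, `step` follows right
multiplication by the generators and `lab` labels the states. -/
structure Reading {N : Nat} (S : Steps N) {G : Type*} [Group G] (gen : Bool → G) {α : Type*}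
    (key : G → α) (step : Bool → α → α) (lab : Nat → α) : Prop where
  key_inj : Function.Injective key
  key_mul : ∀ g l, key (g * gen l) = step l (key g)
  lab_zero : lab 0 = key 1
  lab_nxt : ∀ l i, i < N → lab (S.nxt l i) = step l (lab i)
  lab_one : ∀ i, i < N → lab i = lab 0 → i = 0

theorem Reading.key_val {N : Nat} {S : Steps N} {G : Type*} [Group G] {gen : Bool → G}
    {α : Type*} {key : G → α} {step : Bool → α → α} {lab : Nat → α}
    (R : Reading S gen key step lab) : ∀ i, i < N → key (S.val gen i) = lab i := by
  intro i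
  induction i using Nat.strong_induction_on with
  | _ i ih =>
    intro hi
    rcases eq_or_ne i 0 with rfl | h0
    · rw [S.val_zero, R.lab_zero]
    · have hp := S.prv_lt (S.bit i) i hi
      rw [S.val_succ gen hi h0, R.key_mul, ih _ (S.parent_lt i hi h0) hp,
        ← R.lab_nxt _ _ hp, S.nxt_prv _ _ hi]

theorem Reading.val_nxt {N : Nat} {S : Steps N} {G : Type*} [Group G] {gen : Bool → G}
    {α : Type*} {key : G → α} {step : Bool → α → α} {lab : Nat → α}
    (R : Reading S gen key step lab) (l : Bool) (i : Nat) (hi : i < N) :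
    S.val gen (S.nxt l i) = S.val gen i * gen l := by
  apply R.key_inj
  rw [R.key_val _ (S.nxt_lt l i hi), R.key_mul, R.key_val _ hi, R.lab_nxt l i hi]

theorem Reading.eq_zero {N : Nat} {S : Steps N} {G : Type*} [Group G] {gen : Bool → G}
    {α : Type*} {key : G → α} {step : Bool → α → α} {lab : Nat → α}
    (R : Reading S gen key step lab) (i : Nat) (hi : i < N) (h : S.val gen i = 1) : i = 0 := by
  apply R.lab_one i hi
  rw [← R.key_val i hi, h, R.lab_zero]

/-- Two readings of one table give isomorphic subgroups with as many elements as states. -/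
theorem table_equiv {N : Nat} (S : Steps N) (hN : 0 < N) {G H : Type*} [Group G] [Group H]
    [Finite G] [Finite H] {gx : Bool → G} {gh : Bool → H} {α α' : Type*}
    {kG : G → α} {sG : Bool → α → α} {lG : Nat → α} (RG : Reading S gx kG sG lG)
    {kH : H → α'} {sH : Bool → α' → α'} {lH : Nat → α'} (RH : Reading S gh kH sH lH) :
    Nat.card (Subgroup.closure (Set.range gx)) = N ∧
      Nat.card (Subgroup.closure (Set.range gh)) = N ∧
      Nonempty (Subgroup.closure (Set.range gx) ≃* Subgroup.closure (Set.range gh)) := by
  classical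
  let v : Nat → G × H := fun i => (S.val gx i, S.val gh i)
  let gp : Bool → G × H := fun l => (gx l, gh l)
  have hnxt : ∀ l i, i < N → v (S.nxt l i) = v i * gp l := fun l i hi =>
    Prod.ext (RG.val_nxt l i hi) (RH.val_nxt l i hi)
  have hone : ∀ i, i < N → v i = 1 → i = 0 := fun i hi h =>
    RG.eq_zero i hi (congrArg Prod.fst h)
  have hv0 : v 0 = 1 := Prod.ext (S.val_zero gx) (S.val_zero gh)
  have hvs : ∀ i, i < N → i ≠ 0 → v i = v (S.prv (S.bit i) i) * gp (S.bit i) := fun i hi h0 =>
    Prod.ext (S.val_succ gx hi h0) (S.val_succ gh hi h0)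
  have hinj : ∀ i, i < N → ∀ j, j < N → v i = v j → i = j := by
    intro i
    induction i using Nat.strong_induction_on with
    | _ i ih =>
      intro hi j hj hij
      rcases eq_or_ne i 0 with rfl | h0
      · exact (hone j hj (hij.symm.trans hv0)).symm
      · have hp := S.prv_lt (S.bit i) i hi
        have hq := S.prv_lt (S.bit i) j hj
        have h1 : v (S.prv (S.bit i) i) * gp (S.bit i) = v (S.prv (S.bit i) j) * gp (S.bit i) := by
          rw [← hvs i hi h0, ← hnxt _ _ hq, S.nxt_prv _ _ hj, hij]
        have h2 := ih _ (S.parent_lt i hi h0) hp _ hq (mul_right_cancel h1)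
        rw [← S.nxt_prv (S.bit i) i hi, h2, S.nxt_prv (S.bit i) j hj]
  let K : Subgroup (G × H) := Subgroup.closure (Set.range gp)
  have hmem : ∀ i, i < N → v i ∈ K := by
    intro i
    induction i using Nat.strong_induction_on with
    | _ i ih =>
      intro hi
      rcases eq_or_ne i 0 with rfl | h0
      · rw [hv0]; exact one_mem _
      · rw [hvs i hi h0]
        exact mul_mem (ih _ (S.parent_lt i hi h0) (S.prv_lt _ _ hi))
          (Subgroup.subset_closure ⟨_, rfl⟩)
  have hrange : ∀ p ∈ K, ∃ i, i < N ∧ v i = p := by
    intro p hp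
    have hp' : p ∈ Submonoid.closure (Set.range gp) := by
      have : (Subgroup.closure (Set.range gp)).toSubmonoid = Submonoid.closure (Set.range gp) :=
        Subgroup.closure_toSubmonoid_of_finite
      rw [← this]; exact hp
    induction hp' using Submonoid.closure_induction_right with
    | one => exact ⟨0, hN, hv0⟩
    | mul_right p hp' q hq ih =>
      obtain ⟨l, rfl⟩ := hq
      obtain ⟨i, hi, rfl⟩ := ih (by
        have : (Subgroup.closure (Set.range gp)).toSubmonoid = Submonoid.closure (Set.range gp) :=
          Subgroup.closure_toSubmonoid_of_finite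
        rw [← this] at hp'; exact hp')
      exact ⟨_, S.nxt_lt l i hi, hnxt l i hi⟩
  have hcard : Nat.card K = N := by
    rw [← Nat.card_fin N]
    refine (Nat.card_congr (Equiv.ofBijective
      (fun i : Fin N => (⟨v i, hmem i i.2⟩ : K)) ⟨fun i j h => ?_, fun p => ?_⟩)).symm
    · exact Fin.ext (hinj i i.2 j j.2 (congrArg Subtype.val h))
    · obtain ⟨i, hi, hp⟩ := hrange p p.2
      exact ⟨⟨i, hi⟩, Subtype.ext hp⟩
  let f : K →* G := (MonoidHom.fst G H).comp K.subtype
  let g : K →* H := (MonoidHom.snd G H).comp K.subtype
  have hf : Function.Injective f := by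
    refine (injective_iff_map_eq_one f).2 fun p hp => ?_
    obtain ⟨i, hi, hpi⟩ := hrange p p.2
    have h0 : i = 0 := RG.eq_zero i hi ((congrArg Prod.fst hpi).trans hp)
    subst h0
    exact Subtype.ext (hpi.symm.trans hv0)
  have hg : Function.Injective g := by
    refine (injective_iff_map_eq_one g).2 fun p hp => ?_
    obtain ⟨i, hi, hpi⟩ := hrange p p.2
    have h0 : i = 0 := RH.eq_zero i hi ((congrArg Prod.snd hpi).trans hp)
    subst h0
    exact Subtype.ext (hpi.symm.trans hv0)
  have hfr : f.range = Subgroup.closure (Set.range gx) := by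
    rw [MonoidHom.range_comp, Subgroup.range_subtype, MonoidHom.map_closure]
    congr 1
    rw [← Set.range_comp]; rfl
  have hgr : g.range = Subgroup.closure (Set.range gh) := by
    rw [MonoidHom.range_comp, Subgroup.range_subtype, MonoidHom.map_closure]
    congr 1
    rw [← Set.range_comp]; rfl
  let ef : K ≃* Subgroup.closure (Set.range gx) :=
    (MonoidHom.ofInjective hf).trans (MulEquiv.subgroupCongr hfr)
  let eg : K ≃* Subgroup.closure (Set.range gh) :=
    (MonoidHom.ofInjective hg).trans (MulEquiv.subgroupCongr hgr)
  exact ⟨(Nat.card_congr ef.toEquiv).symm.trans hcard,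
    (Nat.card_congr eg.toEquiv).symm.trans hcard, ⟨ef.symm.trans eg⟩⟩

end Cfsg.Agent.HeFacts
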