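import Cfsg.Agent.HeFacts.Perm
import Cfsg.Agent.HeFacts.Levels
import Cfsg.Agent.HeFacts.IsoChecks
import Cfsg.Agent.HeFacts.CentS
import Cfsg.Agent.HeFacts.TableEquiv

/-!
The centralizer of the involution `e` of the Held group is the centralizer of a transvection
in `SL(5, 2)`.
-/

namespace Cfsg.Agent.HeFacts

open Cfsg.Agent.CosetCert

theorem blt_lt {a b : Nat} (h : Nat.blt a b = true) : a < b := Nat.le_of_ble_eq_true h

theorem state_spec {i : Nat} (hi : i < 21504) :
    checkEdge (get48 permX) rowA i (nextX i) = true ∧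
    checkEdge (get48 permY) rowB i (nextY i) = true ∧
    (prevX i < 21504 ∧ nextX (prevX i) = i) ∧ (prevY i < 21504 ∧ nextY (prevY i) = i) ∧
    checkRoot i = true := by
  have h := statec_ok i hi
  simp only [checkState, force_eq, gate_eq, Bool.and_eq_true] at h
  obtain ⟨h1, h2, ⟨h3, h3'⟩, ⟨h4, h4'⟩, h5⟩ := h
  exact ⟨h1, h2, ⟨blt_lt h3, Nat.eq_of_beq_eq_true h3'⟩, ⟨blt_lt h4, Nat.eq_of_beq_eq_true h4'⟩,
    h5⟩

theorem edge_spec {p T : Nat → Nat} {i j : Nat} (h : checkEdge p T i j = true) :
    j < 21504 ∧ keyOf j = moveKey p (keyOf i) ∧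
      ∀ r, r < 5 → rowOf (matOf j) r = T (rowOf (matOf i) r) := by
  simp only [checkEdge, force_eq, gate_eq, Bool.and_eq_true] at h
  obtain ⟨h1, h2, h3, h4, h5, h6, h7⟩ := h
  refine ⟨blt_lt h1, Nat.eq_of_beq_eq_true h2, fun r hr => ?_⟩
  have hk : ∀ m, rowOf m r = rowK m r := fun _ => rfl
  rw [hk, hk]
  interval_cases r <;> apply Nat.eq_of_beq_eq_true
  exacts [h3, h4, h5, h6, h7]

theorem root_spec {i : Nat} (h0 : i ≠ 0) (h : checkRoot i = true) :
    cond (bitOf i) (prevY i) (prevX i) < i ∧ keyOf i ≠ keyOf 0 ∧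
      ¬ ∀ r, r < 5 → rowOf (matOf i) r = 2 ^ r := by
  have hb : Nat.beq i 0 = false := eq_false_of_ne_true fun hb => h0 (Nat.eq_of_beq_eq_true hb)
  simp only [checkRoot, hb, force_eq, gate_eq, Bool.and_eq_true, Bool.not_eq_true'] at h
  obtain ⟨h1, h2, h3⟩ := h
  refine ⟨blt_lt h1, fun he => ?_, fun hall => ?_⟩
  · rw [he] at h2
    simp at h2
  · have hk : ∀ m r, rowK m r = rowOf m r := fun _ _ => rfl
    rw [hk, hk, hk, hk, hk, hall 0 (by norm_num), hall 1 (by norm_num), hall 2 (by norm_num),
      hall 3 (by norm_num), hall 4 (by norm_num)] at h3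
    simp at h3

/-- The table of the centralizer. -/
noncomputable def steps : Steps 21504 where
  nxt l i := cond l (nextY i) (nextX i)
  prv l i := cond l (prevY i) (prevX i)
  bit := bitOf
  nxt_lt l i hi := by
    obtain ⟨h1, h2, -⟩ := state_spec hi
    cases l
    exacts [(edge_spec h1).1, (edge_spec h2).1]
  prv_lt l i hi := by
    obtain ⟨-, -, h3, h4, -⟩ := state_spec hi
    cases l
    exacts [h3.1, h4.1]
  nxt_prv l i hi := by
    obtain ⟨-, -, h3, h4, -⟩ := state_spec hi
    cases l
    exacts [h3.2, h4.2]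
  parent_lt i hi h0 := by
    obtain ⟨-, -, -, -, h5⟩ := state_spec hi
    have h := (root_spec h0 h5).1
    exact h

/-- Two packed keys are equal only if their parts are. -/
theorem pack4_inj {a b c d a' b' c' d' : Nat} (ha : a < 4096) (hb : b < 4096) (hc : c < 4096)
    (ha' : a' < 4096) (hb' : b' < 4096) (hc' : c' < 4096)
    (h : a + (4096 * b + (16777216 * c + 68719476736 * d)) =
      a' + (4096 * b' + (16777216 * c' + 68719476736 * d'))) :
    a = a' ∧ b = b' ∧ c = c' ∧ d = d' := by omega

theorem moveKey_pack (p : Nat → Nat) {a b c d : Nat} (ha : a < 4096) (hb : b < 4096)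
    (hc : c < 4096) (hd : d < 4096) :
    moveKey p (a + (4096 * b + (16777216 * c + 68719476736 * d))) =
      p a + (4096 * p b + (16777216 * p c + 68719476736 * p d)) := by
  show p ((a + (4096 * b + (16777216 * c + 68719476736 * d))) % 4096) +
    (4096 * p ((a + (4096 * b + (16777216 * c + 68719476736 * d))) / 4096 % 4096) +
      (16777216 * p ((a + (4096 * b + (16777216 * c + 68719476736 * d))) / 16777216 % 4096) +
        68719476736 *
          p ((a + (4096 * b + (16777216 * c + 68719476736 * d))) / 68719476736 % 4096))) = _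
  rw [show (a + (4096 * b + (16777216 * c + 68719476736 * d))) % 4096 = a by omega,
    show (a + (4096 * b + (16777216 * c + 68719476736 * d))) / 4096 % 4096 = b by omega,
    show (a + (4096 * b + (16777216 * c + 68719476736 * d))) / 16777216 % 4096 = c by omega,
    show (a + (4096 * b + (16777216 * c + 68719476736 * d))) / 68719476736 % 4096 = d by omega]

theorem rowA_spec : ∀ v, v < 32 → row5 (rowA v) = Matrix.vecMul (row5 v) matA := by
  decide +kernel

theorem rowB_spec : ∀ v, v < 32 → row5 (rowB v) = Matrix.vecMul (row5 v) matB := by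
  decide +kernel

theorem centralizer_equiv (s : Matrix.SpecialLinearGroup (Fin 5) (ZMod 2))
    (hs : (s : Matrix (Fin 5) (Fin 5) (ZMod 2)) = Matrix.transvection 0 1 1) :
    orderOf (elem [4]) = 2 ∧ Nat.card (Subgroup.centralizer {elem [4]}) = 21504 ∧
      Nonempty (Subgroup.centralizer {elem [4]} ≃* Subgroup.centralizer {s}) := by
  classical
  obtain ⟨φ, hinj, hcard, hfwd0, hfwd⟩ := exists_action
  have := finite_he
  have hz4 : ∀ x ∈ [4], x < 7 := by decide
  have hzz : ∀ c : Fin 2058, (((φ (elem [4]))⁻¹ c : Fin 2058) : Nat) = HeSp44.data.fwd [4] c :=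
    hfwd [4] hz4
  have hX := hfwd wordX (by decide)
  have hY := hfwd wordY (by decide)
  have specX : ∀ c : Fin 2058, get48 permX c = (((φ (elem wordX))⁻¹ c : Fin 2058) : Nat) ∧
      (φ (elem wordX))⁻¹ ((φ (elem [4]))⁻¹ c) = (φ (elem [4]))⁻¹ ((φ (elem wordX))⁻¹ c) ∧
      (φ (elem [4]))⁻¹ ((φ (elem [4]))⁻¹ c) = c := by
    intro c
    have h := wordXc_ok c c.2
    simp only [checkWord, gate_eq, Bool.and_eq_true] at h
    obtain ⟨h1, h2, h3⟩ := h
    have e1 := Nat.eq_of_beq_eq_true h1
    have h1' := wordXc_ok ((φ (elem [4]))⁻¹ c : Fin 2058) (Fin.is_lt _)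
    simp only [checkWord, gate_eq, Bool.and_eq_true] at h1'
    have e1' := Nat.eq_of_beq_eq_true h1'.1
    refine ⟨by rw [hX]; exact e1, Fin.ext ?_, Fin.ext ?_⟩
    · rw [hX, ← e1', hzz, hzz, hX, ← e1]
      exact Nat.eq_of_beq_eq_true h2
    · rw [hzz, hzz]
      exact Nat.eq_of_beq_eq_true h3
  have specY : ∀ c : Fin 2058, get48 permY c = (((φ (elem wordY))⁻¹ c : Fin 2058) : Nat) ∧
      (φ (elem wordY))⁻¹ ((φ (elem [4]))⁻¹ c) = (φ (elem [4]))⁻¹ ((φ (elem wordY))⁻¹ c) := by
    intro c
    have h := wordYc_ok c c.2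
    simp only [checkWord, gate_eq, Bool.and_eq_true] at h
    obtain ⟨h1, h2, -⟩ := h
    have e1 := Nat.eq_of_beq_eq_true h1
    have h1' := wordYc_ok ((φ (elem [4]))⁻¹ c : Fin 2058) (Fin.is_lt _)
    simp only [checkWord, gate_eq, Bool.and_eq_true] at h1'
    have e1' := Nat.eq_of_beq_eq_true h1'.1
    refine ⟨by rw [hY]; exact e1, Fin.ext ?_⟩
    rw [hY, ← e1', hzz, hzz, hY, ← e1]
    exact Nat.eq_of_beq_eq_true h2
  have hcommOf : ∀ g : Cfsg.Spor.He,
      (∀ c, (φ g)⁻¹ ((φ (elem [4]))⁻¹ c) = (φ (elem [4]))⁻¹ ((φ g)⁻¹ c)) →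
      elem [4] * g = g * elem [4] := by
    intro g hg
    apply hinj
    rw [map_mul, map_mul]
    apply inv_injective
    rw [mul_inv_rev, mul_inv_rev]
    exact Equiv.ext hg
  have hordz : orderOf (elem [4]) = 2 := by
    apply orderOf_eq_prime
    · apply hinj
      rw [map_one, sq, map_mul]
      apply inv_injective
      rw [mul_inv_rev, inv_one]
      exact Equiv.ext fun c => (specX c).2.2
    · intro h1
      have h2 := hzz ⟨centLevel6.base, by decide +kernel⟩
      rw [h1, map_one, inv_one, Equiv.Perm.one_apply] at h2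
      revert h2
      decide +kernel
  -- the chain with the centralizer
  obtain ⟨hcent, hbase⟩ := he_chain φ hfwd0
    (φ (elem [4]))⁻¹ [4] hzz centLevels centLevels_ok centCounts centCounts_ok
    (by rw [hcard]; decide +kernel)
  have hCle : Nat.card (Subgroup.centralizer {elem [4]}) ≤ 21504 := by
    refine le_trans ?_ (hcent.trans (by decide))
    refine Nat.card_le_card_of_injective (fun g => ⟨φ g.1, ⟨_, rfl⟩, ?_⟩) ?_
    · refine Subgroup.mem_centralizer_iff.2 ?_
      rintro _ rfl
      have hc : Commute (elem [4]) g.1 := (Subgroup.mem_centralizer_iff.1 g.2 _ rfl)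
      exact (hc.map φ).inv_left.eq
    · exact fun a b hab => Subtype.ext (hinj (congrArg Subtype.val hab))
  -- the readings
  have hb : ∀ k, k ∈ [0, 1, 15, 34] → k < 2058 := by decide
  let R : Cfsg.Spor.He → Fin 2058 → Nat := fun g c => (((φ g)⁻¹ c : Fin 2058) : Nat)
  let kG : Cfsg.Spor.He → Nat := fun g =>
    R g ⟨0, by norm_num⟩ + (4096 * R g ⟨1, by norm_num⟩ +
      (16777216 * R g ⟨15, by norm_num⟩ + 68719476736 * R g ⟨34, by norm_num⟩))
  have hlt : ∀ g c, R g c < 4096 := fun g c =>
    lt_trans ((φ g)⁻¹ c).2 (by norm_num)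
  let gx : Bool → Cfsg.Spor.He := pick (elem wordX) (elem wordY)
  let sG : Bool → Nat → Nat := fun l => moveKey (cond l (get48 permY) (get48 permX))
  have hmul : ∀ g l c, R (g * gx l) c = cond l (get48 permY) (get48 permX) (R g c) := by
    intro g l c
    show (((φ (g * gx l))⁻¹ c : Fin 2058) : Nat) = _
    rw [map_mul, mul_inv_rev, Equiv.Perm.mul_apply]
    cases l
    · exact ((specX _).1).symm
    · exact ((specY _).1).symm
  obtain ⟨-, hbase4⟩ := he_chain φ hfwd0 1 []
    (fun c => rfl) HeOrder.levels HeOrder.levels_ok [2058, 1360, 360, 4]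
    (by exact ⟨Or.inl (by decide +kernel), Or.inl (by decide +kernel), Or.inl (by decide +kernel),
      Or.inl (by decide +kernel), trivial⟩)
    (by rw [hcard]; decide +kernel)
  have hkinj : Function.Injective kG := by
    intro g g' hgg
    obtain ⟨e0, e1, e2, e3⟩ := pack4_inj (hlt _ _) (hlt _ _) (hlt _ _) (hlt _ _) (hlt _ _)
      (hlt _ _) hgg
    have hfix : φ g' * (φ g)⁻¹ = 1 := by
      refine hbase4 _ (mul_mem ⟨_, rfl⟩ (inv_mem ⟨_, rfl⟩)) ?_
      intro c hc
      have hbases : HeOrder.levels.map Data.Level.base = [0, 1, 15, 34] := rfl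
      rw [hbases] at hc
      have key : (φ g)⁻¹ c = (φ g')⁻¹ c := by
        simp only [List.mem_cons, List.not_mem_nil, or_false] at hc
        rcases hc with hc | hc | hc | hc
        · rw [show c = ⟨0, by norm_num⟩ from Fin.ext hc]; exact Fin.ext e0
        · rw [show c = ⟨1, by norm_num⟩ from Fin.ext hc]; exact Fin.ext e1
        · rw [show c = ⟨15, by norm_num⟩ from Fin.ext hc]; exact Fin.ext e2
        · rw [show c = ⟨34, by norm_num⟩ from Fin.ext hc]; exact Fin.ext e3
      rw [Equiv.Perm.mul_apply, key, ← Equiv.Perm.mul_apply, mul_inv_cancel, Equiv.Perm.one_apply]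
    exact (hinj (mul_inv_eq_one.1 hfix)).symm
  have RG : Reading steps gx kG sG keyOf :=
    { key_inj := hkinj
      key_mul := fun g l => by
        show _ = moveKey _ _
        rw [moveKey_pack _ (hlt _ _) (hlt _ _) (hlt _ _) (hlt _ _), ← hmul, ← hmul, ← hmul,
          ← hmul]
      lab_zero := by
        show keyOf 0 = _
        simp only [kG, R, map_one, inv_one, Equiv.Perm.one_apply]
        decide +kernel
      lab_nxt := fun l i hi => by
        obtain ⟨h1, h2, -⟩ := state_spec hi
        cases l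
        exacts [(edge_spec h1).2.1, (edge_spec h2).2.1]
      lab_one := fun i hi h => by
        by_contra h0
        exact (root_spec h0 (state_spec hi).2.2.2.2).2.1 h }
  let a : Matrix.SpecialLinearGroup (Fin 5) (ZMod 2) := ⟨matA, by decide +kernel⟩
  let b : Matrix.SpecialLinearGroup (Fin 5) (ZMod 2) := ⟨matB, by decide +kernel⟩
  let gh : Bool → Matrix.SpecialLinearGroup (Fin 5) (ZMod 2) := pick a b
  let kH : Matrix.SpecialLinearGroup (Fin 5) (ZMod 2) → Matrix (Fin 5) (Fin 5) (ZMod 2) :=
    fun g => g.1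
  let sH : Bool → Matrix (Fin 5) (Fin 5) (ZMod 2) → Matrix (Fin 5) (Fin 5) (ZMod 2) :=
    fun l M => M * cond l matB matA
  have hmat0 : mat5 (matOf 0) = 1 := by
    ext r c
    have h : ∀ r c : Fin 5, mat5 (matOf 0) r c = if r = c then (1 : ZMod 2) else 0 := by
      intro r
      fin_cases r <;> decide +kernel
    rw [h, Matrix.one_apply]
  have RH : Reading steps gh kH sH (fun i => mat5 (matOf i)) :=
    { key_inj := Subtype.val_injective
      key_mul := fun g l => by cases l <;> rfl
      lab_zero := hmat0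
      lab_nxt := fun l i hi => by
        obtain ⟨h1, h2, -⟩ := state_spec hi
        cases l
        exacts [mat5_mul rowA_spec (edge_spec h1).2.2, mat5_mul rowB_spec (edge_spec h2).2.2]
      lab_one := fun i hi h => by
        by_contra h0
        exact (root_spec h0 (state_spec hi).2.2.2.2).2.2 (mat5_eq_one (h.trans hmat0)) }
  obtain ⟨hcx, hch, ⟨eq⟩⟩ := table_equiv steps (by norm_num) RG RH
  have hclx : Subgroup.closure (Set.range gx) = Subgroup.centralizer {elem [4]} := by
    apply Subgroup.eq_of_le_of_card_ge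
    · rw [Subgroup.closure_le]
      rintro _ ⟨l, rfl⟩
      rw [SetLike.mem_coe, Subgroup.mem_centralizer_iff]
      rintro _ rfl
      cases l
      · exact hcommOf _ fun c => (specX c).2.1
      · exact hcommOf _ fun c => (specY c).2
    · rw [hcx]; exact hCle
  have hclh : Subgroup.closure (Set.range gh) = Subgroup.centralizer {s} := by
    apply Subgroup.eq_of_le_of_card_ge
    · rw [Subgroup.closure_le]
      rintro _ ⟨l, rfl⟩
      rw [SetLike.mem_coe, Subgroup.mem_centralizer_iff]
      rintro _ rfl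
      apply Subtype.ext
      rw [Matrix.SpecialLinearGroup.coe_mul, Matrix.SpecialLinearGroup.coe_mul, hs]
      have hA : ∀ r c : Fin 5, (Matrix.transvection (0 : Fin 5) (1 : Fin 5) (1 : ZMod 2) * matA) r c =
          (matA * Matrix.transvection (0 : Fin 5) (1 : Fin 5) (1 : ZMod 2)) r c := by
        decide +kernel
      have hB : ∀ r c : Fin 5, (Matrix.transvection (0 : Fin 5) (1 : Fin 5) (1 : ZMod 2) * matB) r c =
          (matB * Matrix.transvection (0 : Fin 5) (1 : Fin 5) (1 : ZMod 2)) r c := by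
        decide +kernel
      cases l
      · exact Matrix.ext hA
      · exact Matrix.ext hB
    · rw [hch]; exact card_cent_le s hs
  refine ⟨hordz, ?_, ?_⟩
  · rw [← hclx]; exact hcx
  · exact ⟨((MulEquiv.subgroupCongr hclx).symm.trans eq).trans (MulEquiv.subgroupCongr hclh)⟩

end Cfsg.Agent.HeFacts
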