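import Cfsg.Agent.CosetCert.HeOrder.Main
import Cfsg.Agent.HeFacts.CentBound

/-!
The Held group as permutations of the table: the element of a word in the letters `0` to `6`,
acting on the right.
-/

namespace Cfsg.Agent.HeFacts

open Cfsg.Agent.CosetCert

/-- The element of a word of letters. -/
def elem (w : List Nat) : Cfsg.Spor.He :=
  PresentedGroup.mk (Cfsg.Spor.coxRelators Cfsg.Spor.He.edges ∪ {r | r ∈ Cfsg.Spor.He.extra})
    (FreeGroup.mk (w.map HeSp44.dec))

theorem elem_append (v w : List Nat) : elem (v ++ w) = elem v * elem w := by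
  rw [elem, elem, elem, List.map_append, ← map_mul, FreeGroup.mul_mk]

theorem elem_nil : elem [] = 1 := by
  rw [elem, List.map_nil, ← FreeGroup.one_eq_mk, map_one]

theorem finite_he : Finite Cfsg.Spor.He := HeOrder.card_bound.1

/-- A faithful action on the table, `R g c` being the image of `c` under `g` from the right. -/
theorem exists_action :
    ∃ φ : Cfsg.Spor.He →* Equiv.Perm (Fin 2058), Function.Injective φ ∧
      Nat.card φ.range = 4030387200 ∧
      (∀ (l : List (Cfsg.Spor.He.Gen × Bool)) (c : Fin 2058),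
        (((φ (PresentedGroup.mk
            (Cfsg.Spor.coxRelators Cfsg.Spor.He.edges ∪ {r | r ∈ Cfsg.Spor.He.extra})
            (FreeGroup.mk l)))⁻¹ c : Fin 2058) : Nat) =
          HeSp44.data.fwd (l.map (Data.code HeSp44.data.iv HeSp44.enc)) c) ∧
      ∀ w : List Nat, (∀ x ∈ w, x < 7) → ∀ c : Fin 2058,
        (((φ (elem w))⁻¹ c : Fin 2058) : Nat) = HeSp44.data.fwd w c := by
  obtain ⟨φ, π, -, hfwd⟩ := Data.enumeration HeSp44.valid HeSp44.spells
  obtain ⟨hinj, hcard⟩ := Data.order_eq (N := 4030387200) HeSp44.valid HeSp44.spells φ hfwd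
    HeOrder.card_bound.1 HeOrder.card_bound.2 HeOrder.levels HeOrder.levels_ok (by decide +kernel)
  refine ⟨φ, hinj, ?_, hfwd, fun w hw c => ?_⟩
  · exact (Nat.card_congr (MonoidHom.ofInjective hinj).toEquiv).symm.trans hcard
  · have hcode : (w.map HeSp44.dec).map (Data.code HeSp44.data.iv HeSp44.enc) = w := by
      rw [List.map_map]
      conv_rhs => rw [← List.map_id w]
      exact List.map_congr_left fun x hx => HeSp44.spells.code_dec x (hw x hx)
    rw [elem]
    exact (hfwd _ c).trans (by rw [hcode])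

/-- Exact chains on the table of the Held group. -/
theorem he_chain (φ : Cfsg.Spor.He →* Equiv.Perm (Fin 2058))
    (hfwd : ∀ (l : List (Cfsg.Spor.He.Gen × Bool)) (c : Fin 2058),
        (((φ (PresentedGroup.mk
            (Cfsg.Spor.coxRelators Cfsg.Spor.He.edges ∪ {r | r ∈ Cfsg.Spor.He.extra})
            (FreeGroup.mk l)))⁻¹ c : Fin 2058) : Nat) =
          HeSp44.data.fwd (l.map (Data.code HeSp44.data.iv HeSp44.enc)) c)
    (z : Equiv.Perm (Fin 2058)) (zw : List Nat)
    (hz : ∀ c : Fin 2058, (z c : Nat) = HeSp44.data.fwd zw c)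
    (levels : List Data.Level) (hok : HeSp44.data.LevelsOK [] levels) (cs : List Nat)
    (hcs : HeSp44.data.CentOK zw levels cs)
    (hle : Nat.card φ.range ≤ (levels.map Data.Level.size).prod) :
    Nat.card (φ.range ⊓ Subgroup.centralizer {z} : Subgroup _) ≤ cs.prod ∧
      ∀ σ ∈ φ.range, (∀ c : Fin 2058, (c : Nat) ∈ levels.map Data.Level.base → σ c = c) → σ = 1 :=
  Data.exact_chain HeSp44.valid HeSp44.spells φ hfwd z zw hz levels hok cs hcs hle

end Cfsg.Agent.HeFacts
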