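/-
Transport of the Sp4(4):2 subgroup of the presented Held group (proved in S1682) along an
isomorphism: every group isomorphic to He has a subgroup with an index-2 normal subgroup
isomorphic to the symplectic group of dimension 4 over a field of four elements.
-/
import Cfsg.Prelude.Def_Spor_He
import Cfsg.Agent.S1682

set_option autoImplicit false

namespace Cfsg.Agent.HeFacts

universe u

/-- Index-two pairs transport along a group isomorphism. -/
theorem index_two_pair_transport {X : Type*} {G : Type u} [Group X] [Group G] (e : X ≃* G)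
    (H₀ : Subgroup X) (N₀ : Subgroup H₀) (hN : N₀.Normal) (hidx : N₀.index = 2)
    {S : Type*} [Group S] (φ : N₀ ≃* S) :
    ∃ (H : Subgroup G) (N : Subgroup H), N.Normal ∧ N.index = 2 ∧ Nonempty (N ≃* S) := by
  let f : H₀ ≃* H₀.map (e : X →* G) := e.subgroupMap H₀
  refine ⟨H₀.map (e : X →* G), N₀.map f.toMonoidHom, hN.map f.toMonoidHom f.surjective, ?_,
    ⟨(N₀.equivMapOfInjective f.toMonoidHom f.injective).symm.trans φ⟩⟩
  rw [Subgroup.index_map_of_bijective f.bijective]
  exact hidx

/-- A group isomorphic to He has a subgroup `H` with a normal subgroup `N` of index 2 isomorphic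
to `Sp₄(4)`. -/
theorem exists_sp44_subgroup {G : Type u} [Group G] (hG : Cfsg.Spor.IsoHe G) :
    ∃ (H : Subgroup G) (N : Subgroup H) (K : Type) (_ : Field K) (_ : Fintype K),
      N.Normal ∧ N.index = 2 ∧ Fintype.card K = 4 ∧
        Nonempty (N ≃* Matrix.symplecticGroup (Fin 2) K) := by
  obtain ⟨e⟩ := hG
  obtain ⟨N₀, K, fK, ftK, hN, hidx, hK, ⟨φ⟩⟩ := Cfsg.Agent.S1682.result
  obtain ⟨H, N, hN', hidx', hiso⟩ := index_two_pair_transport e.symm _ N₀ hN hidx φ
  exact ⟨H, N, K, fK, ftK, hN', hidx', hK, hiso⟩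

end Cfsg.Agent.HeFacts
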